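import Cfsg.Agent.Helper92.Fi22Rep.RelsA

set_option autoImplicit false
set_option maxRecDepth 1000000

/-!
# The relators of `Fi22` hold for the 78 × 78 matrices over `F_13` (kernel computations, part C)
-/

namespace Cfsg.Agent.Helper92.Fi22Rep

open Cfsg.Agent.Helper92.MatP

/-- the word `(d c b d e f d h i) ^ 10` -/
def spiderW : List ℕ := (List.replicate 10 [3, 2, 1, 3, 4, 5, 3, 7, 8]).flatten
/-- the word `(a b c d e f h) ^ 9` -/
def e7aW : List ℕ := (List.replicate 9 [0, 1, 2, 3, 4, 5, 7]).flatten
/-- the word `(b c d e f g h) ^ 9` -/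
def e7bW : List ℕ := (List.replicate 9 [1, 2, 3, 4, 5, 6, 7]).flatten

theorem spider_ok : evalW 13 78 Psel (idL 78) spiderW = idL 78 := by decide +kernel
theorem e7a_ok : evalW 13 78 Psel (idL 78) e7aW = idL 78 := by decide +kernel
theorem e7b_ok : evalW 13 78 Psel (idL 78) e7bW = idL 78 := by decide +kernel

/-- the matrix of the generator `a` is not the identity: its entry `(1, 0)` is `12` -/
theorem entry_a : digit (Pa.getD 1 0) 0 = 12 := by decide +kernel

end Cfsg.Agent.Helper92.Fi22Rep
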