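import Cfsg.Agent.Helper92.Fi22Rep.RelsB
import Cfsg.Agent.Helper92.Fi22Rep.RelsC
import Cfsg.Agent.Helper28.Fi22C.Main
import Cfsg.Prelude.Def_Spor_Fi22

set_option autoImplicit false

/-!
# A faithful representation of `Fi22` of degree 78 over `F_13`

The nine generators of the presented group `Cfsg.Spor.Fi22` are sent to explicit `78 × 78` matrices over `ZMod 13`
(`DataP`); the relators hold by kernel computation (`RelsA`, `RelsB`, `RelsC`), and the homomorphism so defined is
injective because the presented group is simple (`Cfsg.Agent.Helper28.Fi22C.simple`) and the matrix of `a` is not `1`.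
-/

namespace Cfsg.Agent.Helper92.Fi22Rep

open Cfsg.Agent.Helper92.MatP Cfsg.Spor

/-- the index of a generator -/
def idx : Fi22.Gen → ℕ
  | .a => 0 | .b => 1 | .c => 2 | .d => 3 | .e => 4 | .f => 5 | .g => 6 | .h => 7 | .i => 8

theorem idx_lt (x : Fi22.Gen) : idx x < 9 := by cases x <;> decide

/-- the matrix of a generator -/
noncomputable def Mg (x : Fi22.Gen) : Matrix (Fin 78) (Fin 78) (ZMod 13) := toMP 78 13 (Psel (idx x))

theorem prod_word (w : List ℕ) (h : evalW 13 78 Psel (idL 78) w = idL 78) :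
    (w.map fun x => toMP 78 13 (Psel x)).prod = 1 :=
  prod_eq_one_of_evalW 13 78 (by norm_num) (by norm_num) Psel wfp_all w h

theorem prod_replicate_flatten {M : Type*} [Monoid M] {α : Type*} (f : α → M) (l : List α) (m : ℕ) :
    ((List.replicate m l).flatten.map f).prod = ((l.map f).prod) ^ m := by
  induction m with
  | zero => simp
  | succ m ih =>
    rw [List.replicate_succ, List.flatten_cons, List.map_append, List.prod_append, ih, pow_succ']

theorem Mg_word (w : List Fi22.Gen) (m : ℕ)
    (h : evalW 13 78 Psel (idL 78) (List.replicate m (w.map idx)).flatten = idL 78) :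
    ((w.map Mg).prod) ^ m = 1 := by
  have h1 := prod_word _ h
  rw [prod_replicate_flatten, List.map_map] at h1
  exact h1

theorem Mg_sq (x : Fi22.Gen) : Mg x * Mg x = 1 := by
  have h := Mg_word [x] 2 (by
    have := pairs_all _ _ (idx_lt x) (idx_lt x)
    have hw : coxWord (idx x) (idx x) = (List.replicate 2 ([x].map idx)).flatten := by
      simp [coxWord, lab, List.replicate]
    rwa [hw] at this)
  simpa [pow_two] using h

/-- the invertible matrix of a generator -/
noncomputable def Ug (x : Fi22.Gen) : GL (Fin 78) (ZMod 13) := ⟨Mg x, Mg x, Mg_sq x, Mg_sq x⟩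

theorem Ug_val (x : Fi22.Gen) : (Ug x : Matrix (Fin 78) (Fin 78) (ZMod 13)) = Mg x := rfl

theorem Ug_word (w : List Fi22.Gen) (m : ℕ)
    (h : evalW 13 78 Psel (idL 78) (List.replicate m (w.map idx)).flatten = idL 78) :
    ((w.map Ug).prod) ^ m = 1 := by
  apply Units.ext
  rw [Units.val_pow_eq_pow_val, Units.val_one]
  have h2 : (((w.map Ug).prod : GL (Fin 78) (ZMod 13)) : Matrix (Fin 78) (Fin 78) (ZMod 13)) = (w.map Mg).prod := by
    have := map_list_prod (Units.coeHom (Matrix (Fin 78) (Fin 78) (ZMod 13))) (w.map Ug)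
    rw [List.map_map] at this
    exact this
  rw [h2]
  exact Mg_word w m h

theorem lab_eq (x y : Fi22.Gen) : coxLabel Fi22.edges x y = lab (idx x) (idx y) := by
  cases x <;> cases y <;> rfl

theorem mem_nodes (x : Fi22.Gen) : x ∈ coxNodes Fi22.edges := by
  cases x <;> decide

theorem rel_cox (x y : Fi22.Gen) : (Ug x * Ug y) ^ coxLabel Fi22.edges x y = 1 := by
  have h := Ug_word [x, y] (lab (idx x) (idx y)) (pairs_all _ _ (idx_lt x) (idx_lt y))
  rw [lab_eq]
  simpa using h

theorem rel_spider : (Ug .d * Ug .c * Ug .b * Ug .d * Ug .e * Ug .f * Ug .d * Ug .h * Ug .i) ^ 10 = 1 := by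
  have h := Ug_word [.d, .c, .b, .d, .e, .f, .d, .h, .i] 10 spider_ok
  simpa [mul_assoc] using h

theorem rel_e7a : (Ug .a * Ug .b * Ug .c * Ug .d * Ug .e * Ug .f * Ug .h) ^ 9 = 1 := by
  have h := Ug_word [.a, .b, .c, .d, .e, .f, .h] 9 e7a_ok
  simpa [mul_assoc] using h

theorem rel_e7b : (Ug .b * Ug .c * Ug .d * Ug .e * Ug .f * Ug .g * Ug .h) ^ 9 = 1 := by
  have h := Ug_word [.b, .c, .d, .e, .f, .g, .h] 9 e7b_ok
  simpa [mul_assoc] using h

theorem hrels : ∀ r ∈ coxRelators Fi22.edges ∪ {r | r ∈ Fi22.extra}, FreeGroup.lift Ug r = 1 := by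
  intro r hr
  rcases hr with ⟨x, _, y, _, rfl⟩ | hr
  · rw [map_pow, map_mul, FreeGroup.lift_apply_of, FreeGroup.lift_apply_of]
    exact rel_cox x y
  · simp only [Set.mem_setOf_eq, Fi22.extra, List.mem_cons, List.not_mem_nil, or_false] at hr
    rcases hr with rfl | rfl | rfl
    · simp only [map_pow, map_mul, FreeGroup.lift_apply_of]
      exact rel_spider
    · simp only [map_pow, map_mul, FreeGroup.lift_apply_of]
      exact rel_e7a
    · simp only [map_pow, map_mul, FreeGroup.lift_apply_of]
      exact rel_e7b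

/-- the representation -/
noncomputable def rep : Fi22 →* GL (Fin 78) (ZMod 13) := PresentedGroup.toGroup (f := Ug) hrels

theorem Mg_a_ne_one : Mg .a ≠ 1 := by
  intro h
  have h1 := congrFun (congrFun h 1) 0
  have h2 : Mg .a 1 0 = ((12 : ℕ) : ZMod 13) := by
    show ((digit ((Psel (idx .a)).getD (1 : Fin 78).val 0) (0 : Fin 78).val : ℕ) : ZMod 13) = _
    have : digit ((Psel (idx Fi22.Gen.a)).getD (1 : Fin 78).val 0) (0 : Fin 78).val = 12 := entry_a
    rw [this]
  rw [h2, Matrix.one_apply_ne (by decide)] at h1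
  revert h1
  decide

theorem rep_injective : Function.Injective rep := by
  have : IsSimpleGroup Fi22 := Cfsg.Agent.Helper28.Fi22C.simple
  rcases (inferInstance : rep.ker.Normal).eq_bot_or_eq_top with h | h
  · exact (MonoidHom.ker_eq_bot_iff rep).mp h
  · exfalso
    have h1 : (PresentedGroup.of Fi22.Gen.a : Fi22) ∈ rep.ker := by rw [h]; trivial
    rw [MonoidHom.mem_ker] at h1
    have h2 : rep (PresentedGroup.of Fi22.Gen.a) = Ug .a := PresentedGroup.toGroup.of hrels
    rw [h2] at h1
    apply Mg_a_ne_one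
    have := congrArg (fun u : GL (Fin 78) (ZMod 13) => (u : Matrix (Fin 78) (Fin 78) (ZMod 13))) h1
    simpa [Ug_val] using this

end Cfsg.Agent.Helper92.Fi22Rep
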