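import Mathlib

set_option autoImplicit false

/-!
# Kernel-friendly matrix products over `ZMod p` with packed rows

A matrix is either a list of rows (`List (List ℕ)`, entries `< p`) or a list of packed rows (`List ℕ`, row `k` packed
as `∑ j, M k j * 65536 ^ j`).  `mulP p n A P` multiplies a row matrix `A` by a packed matrix `P`: the row `r` of `A`
gives the number `∑ k, r k * P k`, whose base-65536 digits are the entries of the product before reduction (no
carries as long as `n * (p - 1) ^ 2 < 65536`).
-/

namespace Cfsg.Agent.Helper92.MatP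

/-- `∑ k, a k * b k` -/
noncomputable def dotR (a : List ℕ) : List ℕ → ℕ :=
  List.rec (motive := fun _ => List ℕ → ℕ) (fun _ => 0)
    (fun x _ ih b => List.rec (motive := fun _ => ℕ) 0 (fun y ys _ => Nat.add (Nat.mul x y) (ih ys)) b) a

theorem dotR_nil (b : List ℕ) : dotR [] b = 0 := rfl
theorem dotR_cons_nil (x : ℕ) (a : List ℕ) : dotR (x :: a) [] = 0 := rfl
theorem dotR_cons_cons (x : ℕ) (a : List ℕ) (y : ℕ) (b : List ℕ) :
    dotR (x :: a) (y :: b) = x * y + dotR a b := rfl

/-- the `n` lowest base-65536 digits of `s`, reduced mod `p` -/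
noncomputable def unpack (p : ℕ) (n : ℕ) : ℕ → List ℕ :=
  Nat.rec (motive := fun _ => ℕ → List ℕ) (fun _ => [])
    (fun _ ih s => Nat.mod (Nat.mod s 65536) p :: ih (Nat.div s 65536)) n

theorem unpack_zero (p s : ℕ) : unpack p 0 s = [] := rfl
theorem unpack_succ (p n s : ℕ) : unpack p (n + 1) s = (s % 65536 % p) :: unpack p n (s / 65536) := rfl

/-- product of a row matrix with a packed matrix -/
noncomputable def mulP (p n : ℕ) (A : List (List ℕ)) (P : List ℕ) : List (List ℕ) :=
  List.rec (motive := fun _ => List (List ℕ)) [] (fun r _ ih => unpack p n (dotR r P) :: ih) A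

theorem mulP_nil (p n : ℕ) (P : List ℕ) : mulP p n [] P = [] := rfl
theorem mulP_cons (p n : ℕ) (r : List ℕ) (A : List (List ℕ)) (P : List ℕ) :
    mulP p n (r :: A) P = unpack p n (dotR r P) :: mulP p n A P := rfl

/-- evaluate a word: multiply `I` successively by the packed matrices `T x` -/
noncomputable def evalW (p n : ℕ) (T : ℕ → List ℕ) (I : List (List ℕ)) (w : List ℕ) : List (List ℕ) :=
  List.rec (motive := fun _ => List (List ℕ) → List (List ℕ)) (fun acc => acc)
    (fun x _ ih acc => ih (mulP p n acc (T x))) w I

theorem evalW_nil (p n : ℕ) (T : ℕ → List ℕ) (I : List (List ℕ)) : evalW p n T I [] = I := rfl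
theorem evalW_cons (p n : ℕ) (T : ℕ → List ℕ) (I : List (List ℕ)) (x : ℕ) (w : List ℕ) :
    evalW p n T I (x :: w) = evalW p n T (mulP p n I (T x)) w := rfl

/-- the identity as a row matrix -/
def idL (n : ℕ) : List (List ℕ) :=
  (List.range n).map fun i => (List.range n).map fun j => if i = j then 1 else 0

/-- the digit `j` in base 65536 -/
def digit (s j : ℕ) : ℕ := s / 65536 ^ j % 65536

theorem digit_zero (s : ℕ) : digit s 0 = s % 65536 := by
  unfold digit; simp

theorem digit_div (s j : ℕ) : digit (s / 65536) j = digit s (j + 1) := by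
  unfold digit
  rw [Nat.div_div_eq_div_mul, pow_succ, mul_comm]

theorem digit_zero_left (j : ℕ) : digit 0 j = 0 := by
  unfold digit; simp

/-! ## `dotR` as a sum -/

theorem dotR_eq_sum (a b : List ℕ) :
    dotR a b = ∑ k ∈ Finset.range a.length, a.getD k 0 * b.getD k 0 := by
  induction a generalizing b with
  | nil => simp [dotR_nil]
  | cons x a ih =>
    cases b with
    | nil => simp [dotR_cons_nil]
    | cons y b =>
      rw [dotR_cons_cons, ih b, List.length_cons, Finset.sum_range_succ']
      simp [add_comm]

theorem dotR_add_mul (a b c : List ℕ) (m : ℕ) (hbc : b.length = c.length) :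
    dotR a (List.zipWith (fun y z => y + m * z) b c) = dotR a b + m * dotR a c := by
  induction a generalizing b c with
  | nil => simp [dotR_nil]
  | cons x a ih =>
    cases b with
    | nil =>
      cases c with
      | nil => simp [dotR_cons_nil]
      | cons z c => simp at hbc
    | cons y b =>
      cases c with
      | nil => simp at hbc
      | cons z c =>
        simp only [List.length_cons, add_left_inj] at hbc
        rw [List.zipWith_cons_cons, dotR_cons_cons, dotR_cons_cons, dotR_cons_cons, ih b c hbc]
        ring

theorem dotR_le (a b : List ℕ) (p : ℕ) (ha : ∀ x ∈ a, x ≤ p) (hb : ∀ y ∈ b, y ≤ p) :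
    dotR a b ≤ a.length * (p * p) := by
  induction a generalizing b with
  | nil => simp [dotR_nil]
  | cons x a ih =>
    cases b with
    | nil => simp [dotR_cons_nil]
    | cons y b =>
      rw [dotR_cons_cons, List.length_cons]
      have h1 : x * y ≤ p * p := Nat.mul_le_mul (ha x (by simp)) (hb y (by simp))
      have h2 := ih b (fun x' hx' => ha x' (by simp [hx'])) (fun y' hy' => hb y' (by simp [hy']))
      calc x * y + dotR a b ≤ p * p + a.length * (p * p) := Nat.add_le_add h1 h2
        _ = (a.length + 1) * (p * p) := by ring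

/-! ## Unpacking a dot product -/

theorem split_packed (P : List ℕ) :
    P = List.zipWith (fun y z => y + 65536 * z) (P.map (· % 65536)) (P.map (· / 65536)) := by
  induction P with
  | nil => simp
  | cons y P ih =>
    rw [List.map_cons, List.map_cons, List.zipWith_cons_cons, ← ih]
    congr 1
    exact (Nat.mod_add_div y 65536).symm

theorem unpack_dotR (p n : ℕ) (a : List ℕ) (P : List ℕ)
    (h : ∀ j, j < n → dotR a (P.map (digit · j)) < 65536) :
    unpack p n (dotR a P) = (List.range n).map fun j => dotR a (P.map (digit · j)) % p := by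
  induction n generalizing P with
  | zero => simp [unpack_zero]
  | succ n ih =>
    have hsplit : dotR a P = dotR a (P.map (· % 65536)) + 65536 * dotR a (P.map (· / 65536)) := by
      conv_lhs => rw [split_packed P]
      exact dotR_add_mul a _ _ 65536 (by simp)
    have h0 : dotR a (P.map (· % 65536)) < 65536 := by
      have := h 0 (Nat.succ_pos n)
      have e : P.map (digit · 0) = P.map (· % 65536) := by
        apply List.map_congr_left
        intro y _
        exact digit_zero y
      rwa [e] at this
    have hmod : dotR a P % 65536 = dotR a (P.map (· % 65536)) := by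
      rw [hsplit, Nat.add_mul_mod_self_left, Nat.mod_eq_of_lt h0]
    have hdiv : dotR a P / 65536 = dotR a (P.map (· / 65536)) := by
      rw [hsplit, Nat.add_mul_div_left _ _ (by norm_num : 0 < 65536), Nat.div_eq_of_lt h0, zero_add]
    rw [unpack_succ, hmod, hdiv, ih (P.map (· / 65536)), List.range_succ_eq_map, List.map_cons, List.map_map]
    · congr 1
      · congr 2
        apply List.map_congr_left
        intro y _
        exact (digit_zero y).symm
      · apply List.map_congr_left
        intro j _
        show dotR a ((P.map (· / 65536)).map (digit · j)) % p = dotR a (P.map (digit · (j + 1))) % p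
        rw [List.map_map]
        congr 2
        apply List.map_congr_left
        intro y _
        exact digit_div y j
    · intro j hj
      have := h (j + 1) (Nat.succ_lt_succ hj)
      have e : (P.map (· / 65536)).map (digit · j) = P.map (digit · (j + 1)) := by
        rw [List.map_map]
        apply List.map_congr_left
        intro y _
        exact digit_div y j
      rwa [e]

/-! ## The matrices -/

/-- the matrix of a row matrix -/
def toM (n p : ℕ) (A : List (List ℕ)) : Matrix (Fin n) (Fin n) (ZMod p) :=
  fun i j => (((A.getD i.val []).getD j.val 0 : ℕ) : ZMod p)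

/-- the matrix of a packed matrix -/
def toMP (n p : ℕ) (P : List ℕ) : Matrix (Fin n) (Fin n) (ZMod p) :=
  fun i j => ((digit (P.getD i.val 0) j.val : ℕ) : ZMod p)

/-- well-formed row matrix: rows of length `n`, entries `< p` -/
def WF (n p : ℕ) (A : List (List ℕ)) : Prop := ∀ r ∈ A, r.length = n ∧ ∀ x ∈ r, x < p

/-- well-formed packed matrix: the first `n` digits are `< p` -/
def WFP (n p : ℕ) (P : List ℕ) : Prop := ∀ y ∈ P, ∀ j, j < n → digit y j < p

theorem unpack_length (p n s : ℕ) : (unpack p n s).length = n := by
  induction n generalizing s with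
  | zero => rfl
  | succ n ih => rw [unpack_succ, List.length_cons, ih]

theorem unpack_lt (p n s : ℕ) (hp : 0 < p) : ∀ x ∈ unpack p n s, x < p := by
  induction n generalizing s with
  | zero => intro x hx; simp [unpack_zero] at hx
  | succ n ih =>
    intro x hx
    rw [unpack_succ, List.mem_cons] at hx
    rcases hx with rfl | hx
    · exact Nat.mod_lt _ hp
    · exact ih _ x hx

theorem wf_mulP (p n : ℕ) (hp : 0 < p) (A : List (List ℕ)) (P : List ℕ) : WF n p (mulP p n A P) := by
  induction A with
  | nil => intro r hr; simp [mulP_nil] at hr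
  | cons r0 A ih =>
    intro r hr
    rw [mulP_cons, List.mem_cons] at hr
    rcases hr with rfl | hr
    · exact ⟨unpack_length _ _ _, unpack_lt _ _ _ hp⟩
    · exact ih r hr

theorem mulP_getD (p n : ℕ) (A : List (List ℕ)) (P : List ℕ) (i : ℕ) (hi : i < A.length) :
    (mulP p n A P).getD i [] = unpack p n (dotR (A.getD i []) P) := by
  induction A generalizing i with
  | nil => simp at hi
  | cons r A ih =>
    cases i with
    | zero => rw [mulP_cons]; rfl
    | succ i =>
      rw [mulP_cons]
      simp only [List.getD_cons_succ]
      exact ih i (by simpa using hi)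

theorem mulP_length (p n : ℕ) (A : List (List ℕ)) (P : List ℕ) : (mulP p n A P).length = A.length := by
  induction A with
  | nil => rfl
  | cons r A ih => rw [mulP_cons, List.length_cons, List.length_cons, ih]

theorem map_getD_digit (P : List ℕ) (j k : ℕ) : (P.map (digit · j)).getD k 0 = digit (P.getD k 0) j := by
  by_cases hk : k < P.length
  · rw [List.getD_eq_getElem _ _ (by simpa using hk), List.getD_eq_getElem _ _ hk, List.getElem_map]
  · rw [List.getD_eq_default _ _ (by simpa using hk), List.getD_eq_default _ _ (by simpa using hk),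
      digit_zero_left]

theorem toM_mulP (p n : ℕ) (hp : 0 < p) (hB : n * ((p - 1) * (p - 1)) < 65536)
    (A : List (List ℕ)) (P : List ℕ) (hA : WF n p A) (hP : WFP n p P) :
    toM n p (mulP p n A P) = toM n p A * toMP n p P := by
  ext i j
  rw [Matrix.mul_apply]
  unfold toM toMP
  by_cases hi : i.val < A.length
  · have hr := hA (A.getD i.val []) (by
      rw [List.getD_eq_getElem _ _ hi]; exact List.getElem_mem hi)
    have hbound : ∀ j', j' < n → dotR (A.getD i.val []) (P.map (digit · j')) < 65536 := by
      intro j' hj'
      have h1 := dotR_le (A.getD i.val []) (P.map (digit · j')) (p - 1)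
        (fun x hx => Nat.le_sub_one_of_lt (hr.2 x hx))
        (fun y hy => by
          obtain ⟨z, hz, rfl⟩ := List.mem_map.mp hy
          exact Nat.le_sub_one_of_lt (hP z hz j' hj'))
      rw [hr.1] at h1
      exact lt_of_le_of_lt h1 hB
    rw [mulP_getD p n A P i.val hi, unpack_dotR p n _ P hbound]
    rw [List.getD_eq_getElem _ _ (by simp), List.getElem_map, List.getElem_range, ZMod.natCast_mod,
      dotR_eq_sum, hr.1, Nat.cast_sum, ← Fin.sum_univ_eq_sum_range
        (fun k => (((A.getD i.val []).getD k 0 * (P.map (digit · j.val)).getD k 0 : ℕ) : ZMod p)) n]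
    apply Finset.sum_congr rfl
    intro k _
    rw [Nat.cast_mul, map_getD_digit]
  · have h1 : (mulP p n A P).getD i.val [] = [] :=
      List.getD_eq_default _ _ (by rw [mulP_length]; omega)
    have h2 : A.getD i.val [] = [] := List.getD_eq_default _ _ (by omega)
    rw [h1, h2]
    simp

/-- the product of the matrices of a word -/
theorem toM_evalW (p n : ℕ) (hp : 0 < p) (hB : n * ((p - 1) * (p - 1)) < 65536) (T : ℕ → List ℕ)
    (hT : ∀ x, WFP n p (T x)) (I : List (List ℕ)) (hI : WF n p I) (w : List ℕ) :
    toM n p (evalW p n T I w) = toM n p I * (w.map fun x => toMP n p (T x)).prod := by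
  induction w generalizing I with
  | nil => simp [evalW_nil]
  | cons x w ih =>
    rw [evalW_cons, ih _ (wf_mulP p n hp I (T x)), toM_mulP p n hp hB I (T x) hI (hT x), List.map_cons,
      List.prod_cons, mul_assoc]

theorem wf_idL (n p : ℕ) (hp : 1 < p) : WF n p (idL n) := by
  intro r hr
  unfold idL at hr
  obtain ⟨i, _, rfl⟩ := List.mem_map.mp hr
  refine ⟨by simp, ?_⟩
  intro x hx
  obtain ⟨j, _, rfl⟩ := List.mem_map.mp hx
  split <;> omega

theorem getD_map_range {β : Type*} (f : ℕ → β) (n i : ℕ) (d : β) (hi : i < n) :
    ((List.range n).map f).getD i d = f i := by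
  rw [List.getD_eq_getElem _ _ (by simpa using hi), List.getElem_map, List.getElem_range]

theorem toM_idL (n p : ℕ) : toM n p (idL n) = 1 := by
  ext i j
  unfold toM idL
  rw [getD_map_range _ n i.val [] i.2, getD_map_range _ n j.val 0 j.2, Matrix.one_apply]
  by_cases h : i = j
  · rw [if_pos h, if_pos (by rw [h])]; simp
  · rw [if_neg h, if_neg (fun h' => h (Fin.ext h'))]; simp

/-- a word that evaluates to the identity gives a relation between the matrices -/
theorem prod_eq_one_of_evalW (p n : ℕ) (hp : 1 < p) (hB : n * ((p - 1) * (p - 1)) < 65536) (T : ℕ → List ℕ)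
    (hT : ∀ x, WFP n p (T x)) (w : List ℕ) (h : evalW p n T (idL n) w = idL n) :
    (w.map fun x => toMP n p (T x)).prod = 1 := by
  have h1 := toM_evalW p n (by omega) hB T hT (idL n) (wf_idL n p hp) w
  rw [h, toM_idL, one_mul] at h1
  exact h1.symm

/-- two words that evaluate to the same matrix -/
theorem prod_eq_of_evalW (p n : ℕ) (hp : 1 < p) (hB : n * ((p - 1) * (p - 1)) < 65536) (T : ℕ → List ℕ)
    (hT : ∀ x, WFP n p (T x)) (w w' : List ℕ) (h : evalW p n T (idL n) w = evalW p n T (idL n) w') :
    (w.map fun x => toMP n p (T x)).prod = (w'.map fun x => toMP n p (T x)).prod := by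
  have h1 := toM_evalW p n (by omega) hB T hT (idL n) (wf_idL n p hp) w
  have h2 := toM_evalW p n (by omega) hB T hT (idL n) (wf_idL n p hp) w'
  rw [toM_idL, one_mul] at h1 h2
  rw [← h1, ← h2, h]

/-- a decidable form of `WFP` -/
noncomputable def wfpB (n p : ℕ) (P : List ℕ) : Bool :=
  P.all fun y => (List.range n).all fun j => decide (digit y j < p)

theorem wfp_of_wfpB (n p : ℕ) (P : List ℕ) (h : wfpB n p P = true) : WFP n p P := by
  intro y hy j hj
  unfold wfpB at h
  rw [List.all_eq_true] at h
  have h1 := h y hy
  rw [List.all_eq_true] at h1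
  have h2 := h1 j (List.mem_range.mpr hj)
  exact of_decide_eq_true h2

end Cfsg.Agent.Helper92.MatP
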