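import Cfsg.Agent.Helper92.Fi22Rep.MatP
import Cfsg.Agent.Helper92.Fi22Rep.DataP

set_option autoImplicit false
set_option maxRecDepth 1000000

/-!
# The relators of `Fi22` hold for the 78 × 78 matrices over `F_13` (kernel computations, part A)
-/

namespace Cfsg.Agent.Helper92.Fi22Rep

open Cfsg.Agent.Helper92.MatP

/-- the packed matrix of the generator with index `k` (`a, …, i` are `0, …, 8`) -/
def Psel : ℕ → List ℕ
  | 0 => Pa | 1 => Pb | 2 => Pc | 3 => Pd | 4 => Pe | 5 => Pf | 6 => Pg | 7 => Ph | _ => Pi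

theorem wfp_a : wfpB 78 13 Pa = true := by decide +kernel
theorem wfp_b : wfpB 78 13 Pb = true := by decide +kernel
theorem wfp_c : wfpB 78 13 Pc = true := by decide +kernel
theorem wfp_d : wfpB 78 13 Pd = true := by decide +kernel
theorem wfp_e : wfpB 78 13 Pe = true := by decide +kernel
theorem wfp_f : wfpB 78 13 Pf = true := by decide +kernel
theorem wfp_g : wfpB 78 13 Pg = true := by decide +kernel
theorem wfp_h : wfpB 78 13 Ph = true := by decide +kernel
theorem wfp_i : wfpB 78 13 Pi = true := by decide +kernel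

theorem wfp_all (x : ℕ) : WFP 78 13 (Psel x) := by
  apply wfp_of_wfpB
  unfold Psel
  split
  exacts [wfp_a, wfp_b, wfp_c, wfp_d, wfp_e, wfp_f, wfp_g, wfp_h, wfp_i]

/-- adjacency in the diagram `Y332` (indices of `a, …, i`) -/
def adjB (x y : ℕ) : Bool :=
  decide ((x, y) ∈ [(0, 1), (1, 0), (1, 2), (2, 1), (2, 3), (3, 2), (3, 4), (4, 3), (3, 7), (7, 3), (4, 5), (5, 4),
    (5, 6), (6, 5), (7, 8), (8, 7)])

/-- the Coxeter label -/
def lab (x y : ℕ) : ℕ := if x = y then 1 else if adjB x y = true then 3 else 2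

/-- the word `(x y) ^ lab x y` -/
def coxWord (x y : ℕ) : List ℕ := (List.replicate (lab x y) [x, y]).flatten

theorem pairs_0 : ∀ y < 9, evalW 13 78 Psel (idL 78) (coxWord 0 y) = idL 78 := by decide +kernel
theorem pairs_1 : ∀ y < 9, evalW 13 78 Psel (idL 78) (coxWord 1 y) = idL 78 := by decide +kernel
theorem pairs_2 : ∀ y < 9, evalW 13 78 Psel (idL 78) (coxWord 2 y) = idL 78 := by decide +kernel
theorem pairs_3 : ∀ y < 9, evalW 13 78 Psel (idL 78) (coxWord 3 y) = idL 78 := by decide +kernel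
theorem pairs_4 : ∀ y < 9, evalW 13 78 Psel (idL 78) (coxWord 4 y) = idL 78 := by decide +kernel

end Cfsg.Agent.Helper92.Fi22Rep
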