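import Cfsg.Agent.Helper92.Fi22Rep.RelsA

set_option autoImplicit false
set_option maxRecDepth 1000000

/-!
# The relators of `Fi22` hold for the 78 × 78 matrices over `F_13` (kernel computations, part B)
-/

namespace Cfsg.Agent.Helper92.Fi22Rep

open Cfsg.Agent.Helper92.MatP

theorem pairs_5 : ∀ y < 9, evalW 13 78 Psel (idL 78) (coxWord 5 y) = idL 78 := by decide +kernel
theorem pairs_6 : ∀ y < 9, evalW 13 78 Psel (idL 78) (coxWord 6 y) = idL 78 := by decide +kernel
theorem pairs_7 : ∀ y < 9, evalW 13 78 Psel (idL 78) (coxWord 7 y) = idL 78 := by decide +kernel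
theorem pairs_8 : ∀ y < 9, evalW 13 78 Psel (idL 78) (coxWord 8 y) = idL 78 := by decide +kernel

theorem pairs_all (x y : ℕ) (hx : x < 9) (hy : y < 9) :
    evalW 13 78 Psel (idL 78) (coxWord x y) = idL 78 := by
  interval_cases x
  exacts [pairs_0 y hy, pairs_1 y hy, pairs_2 y hy, pairs_3 y hy, pairs_4 y hy, pairs_5 y hy, pairs_6 y hy,
    pairs_7 y hy, pairs_8 y hy]

end Cfsg.Agent.Helper92.Fi22Rep
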